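import Cfsg.Prelude.Def_Quasithin
import Cfsg.Agent.SignalizersComponents.CharP
import Cfsg.Agent.SignalizersComponents.Components
import Cfsg.Agent.SignalizersComponents.CompBasic

/-!
# Subgroups over a Sylow 2-subgroup in a group of even characteristic, and maximal 2-local subgroups

* `charTwo_of_over`: `T ≤ X`, `O_2(X) ≠ 1` ⟹ `C_X(O_2(X)) ≤ O_2(X)`;
* `genFitting_of_subnormal`: then `F*(L) = O_2(L)` for `L` subnormal in `X`;
* `exists_maxTwoLocal`: every member of `ℋ(X)` lies in a maximal 2-local subgroup;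
* `maxTwoLocals_eq`: uniqueness of the maximal 2-local subgroup over `X` from the invariance of a subgroup `Y`.
-/

set_option autoImplicit false

namespace Cfsg.Agent.QTUniq.Local

open Subgroup Cfsg.Agent.Lib.Cores

variable {G : Type*} [Group G]

/-- `O_2(X)` as a subgroup of `G` is normalized by `X`. -/
theorem le_normalizer_map_pCore (p : ℕ) (X : Subgroup G) :
    X ≤ normalizer (((pCore p ↥X).map X.subtype : Subgroup G) : Set G) := by
  have h : ((pCore p ↥X).map X.subtype).subgroupOf X = pCore p ↥X := by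
    rw [Subgroup.subgroupOf, Subgroup.comap_map_eq_self_of_injective X.subtype_injective]
  rw [← Subgroup.normal_subgroupOf_iff_le_normalizer (Subgroup.map_subtype_le _), h]
  exact Cfsg.Agent.Lib.Cores.pCore_normal p

theorem map_pCore_ne_bot {p : ℕ} {X : Subgroup G} (h : pCore p ↥X ≠ ⊥) : (pCore p ↥X).map X.subtype ≠ ⊥ := by
  intro h1
  exact h ((Subgroup.map_eq_bot_iff_of_injective _ X.subtype_injective).1 h1)

theorem map_pCore_isPGroup (p : ℕ) (X : Subgroup G) : IsPGroup p ↥((pCore p ↥X).map X.subtype) :=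
  (pCore_isPGroup p).map _

/-- a `p`-subgroup of `X` normalized by `X` lies in `O_p(X)` -/
theorem le_map_pCore {p : ℕ} {X U : Subgroup G} (hUX : U ≤ X) (hU : IsPGroup p ↥U)
    (hn : X ≤ normalizer (U : Set G)) : U ≤ (pCore p ↥X).map X.subtype := by
  have h1 : U.subgroupOf X ≤ pCore p ↥X :=
    le_pCore ((Subgroup.normal_subgroupOf_iff_le_normalizer hUX).2 hn)
      (hU.comap_of_injective X.subtype X.subtype_injective)
  intro x hx
  exact ⟨⟨x, hUX hx⟩, h1 hx, rfl⟩

/-- a subgroup with a nontrivial normal 2-subgroup lies in a 2-local subgroup -/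
theorem le_twoLocal {X : Subgroup G} (h : pCore 2 ↥X ≠ ⊥) :
    IsTwoLocal (normalizer (((pCore 2 ↥X).map X.subtype : Subgroup G) : Set G)) :=
  ⟨_, map_pCore_isPGroup 2 X, map_pCore_ne_bot h, rfl⟩

/-- `O_2` of a 2-local subgroup is nontrivial. -/
theorem pCore_ne_bot_of_twoLocal {M : Subgroup G} (hM : IsTwoLocal M) : pCore 2 ↥M ≠ ⊥ := by
  obtain ⟨U, hU, hU1, rfl⟩ := hM
  intro h
  have h1 := le_map_pCore (p := 2) (Subgroup.le_normalizer (H := U)) hU le_rfl
  rw [h, Subgroup.map_bot] at h1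
  exact hU1 (le_bot_iff.1 h1)

/-- In a finite group every 2-local subgroup lies in a maximal one. -/
theorem exists_maximal_twoLocal [Finite G] {N : Subgroup G} (hN : IsTwoLocal N) :
    ∃ M : Subgroup G, IsMaximalTwoLocal M ∧ N ≤ M := by
  classical
  have hfin : Set.Finite {M : Subgroup G | IsTwoLocal M ∧ N ≤ M} := Set.toFinite _
  obtain ⟨M, hM⟩ := hfin.exists_maximal ⟨N, hN, le_rfl⟩
  refine ⟨M, ⟨hM.prop.1, fun K hK hMK => ?_⟩, hM.prop.2⟩
  exact le_antisymm (hM.2 ⟨hK, hM.prop.2.trans hMK⟩ hMK) hMK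

/-- every subgroup with a nontrivial 2-core lies in a maximal 2-local subgroup -/
theorem exists_maxTwoLocal [Finite G] {X : Subgroup G} (h : pCore 2 ↥X ≠ ⊥) :
    ∃ M : Subgroup G, M ∈ maxTwoLocalsContaining X := by
  obtain ⟨M, hM, hle⟩ := exists_maximal_twoLocal (le_twoLocal h)
  exact ⟨M, hM, (le_normalizer_map_pCore 2 X).trans hle⟩

/-- `O_2` of an overgroup of a Sylow 2-subgroup lies in the Sylow 2-subgroup. -/
theorem map_pCore_le_sylow {p : ℕ} {X : Subgroup G} (T : Sylow p G) (hT : (T : Subgroup G) ≤ X) :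
    (pCore p ↥X).map X.subtype ≤ (T : Subgroup G) := by
  have h := pCore_le_sylow (T.subtype hT)
  rintro _ ⟨x, hx, rfl⟩
  exact h hx

/-- If `T ≤ X ≤ Y`, then `O_2(Y) ≤ O_2(X)`. -/
theorem map_pCore_anti {p : ℕ} {X Y : Subgroup G} (T : Sylow p G) (hT : (T : Subgroup G) ≤ X) (hXY : X ≤ Y) :
    (pCore p ↥Y).map Y.subtype ≤ (pCore p ↥X).map X.subtype :=
  le_map_pCore ((map_pCore_le_sylow T (hT.trans hXY)).trans hT) (map_pCore_isPGroup p Y)
    (hXY.trans (le_normalizer_map_pCore p Y))

/-- If `T ≤ X ≤ Y` and `Y` has a nontrivial 2-core, so has `X`. -/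
theorem pCore_ne_bot_anti {p : ℕ} {X Y : Subgroup G} (T : Sylow p G) (hT : (T : Subgroup G) ≤ X) (hXY : X ≤ Y)
    (h : pCore p ↥Y ≠ ⊥) : pCore p ↥X ≠ ⊥ := by
  intro h1
  have h2 := map_pCore_anti T hT hXY
  rw [h1, Subgroup.map_bot, le_bot_iff] at h2
  exact map_pCore_ne_bot h h2

/-- **Even characteristic**: a subgroup over a Sylow 2-subgroup with a nontrivial 2-core has characteristic 2. -/
theorem charTwo_of_over (hE : IsOfEvenCharacteristic G) (T : Sylow 2 G) {X : Subgroup G}
    (hT : (T : Subgroup G) ≤ X) (h : pCore 2 ↥X ≠ ⊥) :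
    centralizer (pCore 2 ↥X : Set ↥X) ≤ pCore 2 ↥X := by
  set N : Subgroup G := normalizer (((pCore 2 ↥X).map X.subtype : Subgroup G) : Set G) with hN
  have hXN : X ≤ N := le_normalizer_map_pCore 2 X
  have hchar : centralizer (pCore 2 ↥N : Set ↥N) ≤ pCore 2 ↥N := hE N (le_twoLocal h) ⟨T, hT.trans hXN⟩
  have hle := map_pCore_anti T hT hXN
  rintro ⟨c, hcX⟩ hc
  have h1 : (⟨c, hXN hcX⟩ : ↥N) ∈ centralizer (pCore 2 ↥N : Set ↥N) := by
    rw [Subgroup.mem_centralizer_iff]
    rintro ⟨y, hyN⟩ hy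
    obtain ⟨⟨z, hzX⟩, hz, hzy⟩ := hle ⟨⟨y, hyN⟩, hy, rfl⟩
    have h2 := Subgroup.mem_centralizer_iff.1 hc _ hz
    have h3 : z * c = c * z := congrArg Subtype.val h2
    have h4 : z = y := hzy
    apply Subtype.ext
    change y * c = c * y
    rw [← h4]; exact h3
  obtain ⟨⟨z, hzX⟩, hz, hzc⟩ := hle ⟨_, hchar h1, rfl⟩
  have h5 : z = c := hzc
  subst h5
  exact hz

/-- In a group of characteristic `p`, a subnormal subgroup has `F* = O_p`. -/
theorem genFitting_of_subnormal {X : Type*} [Group X] [Finite X] {p : ℕ} [hp : Fact p.Prime]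
    (hX : centralizer (pCore p X : Set X) ≤ pCore p X) {L : Subgroup X} (hL : L.IsSubnormal) :
    generalizedFittingSubgroup ↥L = pCore p ↥L := by
  have hF : generalizedFittingSubgroup X = pCore p X :=
    Cfsg.Agent.SignalizersComponents.CharP.genFitting_eq_pCore_iff.2 hX
  have hlay : layer ↥L = ⊥ := by
    change sSup {K : Subgroup ↥L | IsComponent K} = ⊥
    rw [sSup_eq_bot]
    intro K hK
    exfalso
    have h1 := Cfsg.Agent.SignalizersComponents.Components.isComponent_map_subtype hL hK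
    have h2 : K.map L.subtype ≤ pCore p X := by
      rw [← hF]
      exact (Cfsg.Agent.SignalizersComponents.Components.component_le_layer h1).trans le_sup_left
    have h3 : IsPGroup p ↥(K.map L.subtype) := (pCore_isPGroup p).to_le h2
    refine Cfsg.Agent.SignalizersComponents.Components.quasisimple_not_isSolvable h1.2 ?_
    have := h3.isNilpotent
    infer_instance
  have hfit : fittingSubgroup ↥L ≤ pCore p ↥L := by
    have h1 : ((fittingSubgroup ↥L).map L.subtype).IsSubnormal := by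
      refine Subgroup.IsSubnormal.trans' ?_ hL
      exact (fittingSubgroup_normal (G := ↥L)).isSubnormal
    have h2 : Group.IsNilpotent ↥((fittingSubgroup ↥L).map L.subtype) := by
      have := fittingSubgroup_isNilpotent (G := ↥L)
      exact (isNilpotent_map_equiv (f := L.subtype) L.subtype_injective _).2 this
    have h3 := Cfsg.Agent.SignalizersComponents.CharP.subnormal_nilpotent_le_fitting h1 h2
    have h4 : (fittingSubgroup ↥L).map L.subtype ≤ pCore p X := by
      rw [← hF]
      exact h3.trans le_sup_right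
    refine le_pCore fittingSubgroup_normal ?_
    have h5 : IsPGroup p ↥((fittingSubgroup ↥L).map L.subtype) := (pCore_isPGroup p).to_le h4
    exact h5.of_injective ((fittingSubgroup ↥L).equivMapOfInjective L.subtype L.subtype_injective).toMonoidHom
      (MulEquiv.injective _)
  change layer ↥L ⊔ fittingSubgroup ↥L = _
  rw [hlay, bot_sup_eq]
  exact le_antisymm hfit (pCore_le_fittingSubgroup p)

/-- **Uniqueness of the maximal 2-local subgroup over `X`** from the invariance of a subgroup `Y` with a nontrivial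
2-core. -/
theorem maxTwoLocals_eq [Finite G] {X Y : Subgroup G} (hX : pCore 2 ↥X ≠ ⊥) (hY : pCore 2 ↥Y ≠ ⊥)
    (h : ∀ M ∈ maxTwoLocalsContaining X, M ≤ normalizer (Y : Set G)) :
    maxTwoLocalsContaining X = {normalizer (Y : Set G)} := by
  set U : Subgroup G := (pCore 2 ↥Y).map Y.subtype with hU
  have hYU : normalizer (Y : Set G) ≤ normalizer (U : Set G) := by
    have key : ∀ g ∈ normalizer (Y : Set G), ∀ x ∈ U, g * x * g⁻¹ ∈ U := by
      intro g hg x hx
      let f : MulAut ↥Y := (Subgroup.normalizerMonoidHom Y) ⟨g, hg⟩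
      have h5 : (pCore 2 ↥Y).map f.toMonoidHom = pCore 2 ↥Y := map_equiv_pCore f 2
      obtain ⟨y, hy, rfl⟩ := hx
      refine ⟨f y, ?_, rfl⟩
      rw [← h5]
      exact ⟨y, hy, rfl⟩
    intro g hg
    rw [Subgroup.mem_normalizer_iff]
    intro x
    refine ⟨key g hg x, fun hx => ?_⟩
    have h8 := key g⁻¹ (Subgroup.inv_mem _ hg) _ hx
    have e : g⁻¹ * (g * x * g⁻¹) * g⁻¹⁻¹ = x := by group
    rwa [e] at h8
  have hUl : IsTwoLocal (normalizer (U : Set G)) := le_twoLocal hY
  have key : ∀ M ∈ maxTwoLocalsContaining X, M = normalizer (Y : Set G) := by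
    intro M hM
    have h1 := h M hM
    have h2 := hM.1.2 _ hUl (h1.trans hYU)
    exact le_antisymm h1 (hYU.trans h2.le)
  ext M
  rw [Set.mem_singleton_iff]
  refine ⟨key M, fun hM => ?_⟩
  obtain ⟨M', hM'⟩ := exists_maxTwoLocal hX
  rw [hM, ← key M' hM']
  exact hM'

end Cfsg.Agent.QTUniq.Local
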