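import Cfsg.Prelude.Def_Quasithin
import Cfsg.Agent.QTUniq.Over
import Cfsg.Agent.QTUniq.Local
import Cfsg.Agent.Lib.GenFitting

/-!
# Nonsolvable uniqueness groups (S1821), from the structure of `𝒞`-components (S1820)

`CC H`: the properties of the `𝒞`-components of `H` from S1820 which are used here.
-/

set_option autoImplicit false

namespace Cfsg.Agent.QTUniq.Main

open Subgroup Cfsg.Agent.TwoFusion.PerfCore Cfsg.Agent.QTUniq.CComp Cfsg.Agent.QTUniq.Local Cfsg.Agent.QTUniq.Over
open Cfsg.Agent.Lib.Cores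
open scoped commutatorElement

universe u

/-- properties of the `𝒞`-components of `H` (part of S1820) -/
structure CC (H : Type u) [Group H] : Prop where
  sup : sSup (calC H) = perfectCore H
  comm : ∀ L₁ ∈ calC H, ∀ L₂ ∈ calC H, L₁ ≠ L₂ → ⁅L₁, L₂⁆ ≤ pCore 2 H
  norm : ∀ L ∈ calC H, L.Normal ∨ (normalizer (L : Set H)).index = 2

variable {G : Type u} [Group G] [Finite G]

/-- `L.map (conj t) ≠ L` if `t` does not normalize `L`. -/
theorem map_conj_ne {X : Type*} [Group X] [Finite X] {L : Subgroup X} {t : X} (ht : t ∉ normalizer (L : Set X)) :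
    L.map (MulAut.conj t).toMonoidHom ≠ L := by
  intro heq
  apply ht
  rw [Subgroup.mem_normalizer_iff]
  have key : ∀ x : X, x ∈ L → t * x * t⁻¹ ∈ L := by
    intro x hx
    have h5 : (MulAut.conj t) x ∈ L.map (MulAut.conj t).toMonoidHom := ⟨x, hx, rfl⟩
    rw [heq] at h5
    exact h5
  intro x
  refine ⟨key x, fun hx => ?_⟩
  rw [← heq] at hx
  obtain ⟨y, hy, hyx⟩ := hx
  have h6 : t * y * t⁻¹ = t * x * t⁻¹ := hyx
  have h7 : y = x := by simpa using h6
  exact h7 ▸ hy

theorem map_conj_eq {X : Type*} [Group X] {L : Subgroup X} {t : X} (ht : t ∈ normalizer (L : Set X)) :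
    L.map (MulAut.conj t).toMonoidHom = L := by
  ext x
  constructor
  · rintro ⟨y, hy, rfl⟩
    exact (Subgroup.mem_normalizer_iff.1 ht y).1 hy
  · intro hx
    refine ⟨t⁻¹ * x * t, ?_, ?_⟩
    · have := (Subgroup.mem_normalizer_iff.1 (Subgroup.inv_mem _ ht) x).1 hx
      rwa [inv_inv] at this
    · change t * (t⁻¹ * x * t) * t⁻¹ = x
      group

/-- Every overgroup `H` of `⟨L, T⟩` with a nontrivial 2-core has a `𝒞`-component above `L`. -/
theorem exists_over (hFT : OddOrd.{u}) (hCC : ∀ H ∈ calH G, CC ↥H) (T : Sylow 2 G) {L : Subgroup G}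
    (hL : L ∈ calL (T : Subgroup G)) {H : Subgroup G} (hH : H ∈ calHOver (L ⊔ (T : Subgroup G))) :
    ∃ K : Subgroup G, K ≤ H ∧ K.subgroupOf H ∈ calC ↥H ∧ L ≤ K := by
  classical
  set W : Subgroup G := L ⊔ (T : Subgroup G) with hW
  have hLW : L ≤ W := le_sup_left
  have hTW : (T : Subgroup G) ≤ W := le_sup_right
  have hWH : W ≤ H := hH.2
  have hLH : L ≤ H := hLW.trans hWH
  have hTH : (T : Subgroup G) ≤ H := hTW.trans hWH
  obtain ⟨hLb, hLp, hLs, hLm⟩ := (mem_calC_iff hLW).1 hL.1
  have hHcc := hCC H hH.1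
  have hWcc : CC ↥W := hCC W hL.2.2
  let TH : Sylow 2 ↥H := T.subtype hTH
  have hTHc : (TH : Subgroup ↥H) = (T : Subgroup G).subgroupOf H := rfl
  have hmapL : (L.subgroupOf H).map H.subtype = L := by
    rw [Subgroup.subgroupOf_map_subtype, inf_eq_left.2 hLH]
  have hmapT : ((T : Subgroup G).subgroupOf H).map H.subtype = (T : Subgroup G) := by
    rw [Subgroup.subgroupOf_map_subtype, inf_eq_left.2 hTH]
  have hsup : L.subgroupOf H ⊔ (TH : Subgroup ↥H) = W.subgroupOf H := by
    rw [← (Subgroup.map_injective H.subtype_injective).eq_iff, Subgroup.map_sup, hTHc, hmapL, hmapT,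
      Subgroup.subgroupOf_map_subtype, inf_eq_left.2 hWH]
  have hmem : ∃ K ∈ calC ↥H, L.subgroupOf H ≤ K := by
    refine exists_le_of_mem hFT TH (L.subgroupOf H) hHcc.sup hHcc.norm ?_ ?_ ?_ ?_ ?_
    · intro h
      apply hLb
      rw [← hmapL, h, Subgroup.map_bot]
    · rw [← (Subgroup.map_injective H.subtype_injective).eq_iff, Subgroup.map_commutator, hmapL, hLp]
    · have h1 := hLs.comap ((H.subtype.comp (L.subgroupOf H ⊔ (TH : Subgroup ↥H)).subtype).codRestrict W
        (fun x => by
          have hx : (x : ↥H) ∈ W.subgroupOf H := hsup ▸ x.2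
          exact hx))
      exact h1
    · intro N hN hNt
      let e : ↥(L.subgroupOf H) ≃* ↥L := Subgroup.subgroupOfEquivOfLe hLH
      -- a proper normal subgroup of `L`
      have h1 : (N.map e.toMonoidHom).Normal := Subgroup.Normal.map hN _ e.surjective
      have h2 : N.map e.toMonoidHom ≠ ⊤ := by
        intro h
        apply hNt
        rw [← Subgroup.map_top_of_surjective e.toMonoidHom e.surjective] at h
        exact Subgroup.map_injective (f := e.toMonoidHom) e.injective h
      let N₁ : Subgroup G := (N.map e.toMonoidHom).map L.subtype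
      have hN₁L : N₁ ≤ L := Subgroup.map_subtype_le _
      have hN₁W : N₁ ≤ W := hN₁L.trans hLW
      have hsub : N₁.subgroupOf L = N.map e.toMonoidHom := by
        rw [Subgroup.subgroupOf, Subgroup.comap_map_eq_self_of_injective L.subtype_injective]
      have h5 := solvable_of_normal hL.1 (N := N₁.subgroupOf W) (Subgroup.comap_mono hN₁L) ?_ ?_
      · have h6 : Group.IsSolvable ↥N₁ :=
          Group.isSolvable_of_surjective (f := (Subgroup.subgroupOfEquivOfLe hN₁W).toMonoidHom)
            (Subgroup.subgroupOfEquivOfLe hN₁W).surjective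
        have h7 : Group.IsSolvable ↥(N.map e.toMonoidHom) :=
          Group.isSolvable_of_isSolvable_injective
            (f := (((N.map e.toMonoidHom).equivMapOfInjective L.subtype L.subtype_injective).toMonoidHom))
            (MulEquiv.injective _)
        exact Group.isSolvable_of_isSolvable_injective
          (f := ((N.equivMapOfInjective e.toMonoidHom e.injective).toMonoidHom)) (MulEquiv.injective _)
      · intro x hx
        rw [Subgroup.mem_subgroupOf] at hx
        have h8 : L ≤ normalizer (N₁ : Set G) := by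
          rw [← Subgroup.normal_subgroupOf_iff_le_normalizer hN₁L, hsub]
          exact h1
        rw [Subgroup.mem_normalizer_iff]
        intro y
        rw [Subgroup.mem_subgroupOf, Subgroup.mem_subgroupOf]
        exact Subgroup.mem_normalizer_iff.1 (h8 hx) y
      · intro heq
        apply h2
        have h9 : N₁ = L := by
          have := congrArg (Subgroup.map W.subtype) heq
          rwa [Subgroup.subgroupOf_map_subtype, Subgroup.subgroupOf_map_subtype, inf_eq_left.2 hN₁W,
            inf_eq_left.2 hLW] at this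
        rw [← hsub, h9, Subgroup.subgroupOf_self]
    · rintro t ht htL
      have htT : (t : G) ∈ (T : Subgroup G) := ht
      have htW : (t : G) ∈ W := hTW htT
      refine ⟨((pCore 2 ↥W).map W.subtype).subgroupOf H, ?_, ?_⟩
      · exact (map_pCore_isPGroup 2 W).comap_of_injective H.subtype H.subtype_injective
      · have htL' : (⟨(t : G), htW⟩ : ↥W) ∉ normalizer (L.subgroupOf W : Set ↥W) := by
          intro h
          apply htL
          rw [Subgroup.mem_normalizer_iff] at h ⊢
          have key : ∀ x : ↥H, x ∈ L.subgroupOf H → t * x * t⁻¹ ∈ L.subgroupOf H := by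
            intro x hx
            exact (h ⟨x, hLW hx⟩).1 hx
          have key' : ∀ x : ↥H, x ∈ L.subgroupOf H → t⁻¹ * x * t ∈ L.subgroupOf H := by
            intro x hx
            have h6 := (h ⟨(t : G)⁻¹ * x * t, W.mul_mem (W.mul_mem (W.inv_mem htW) (hLW hx)) htW⟩).2 ?_
            · exact h6
            · rw [Subgroup.mem_subgroupOf]
              change (t : G) * ((t : G)⁻¹ * x * t) * (t : G)⁻¹ ∈ L
              have e : (t : G) * ((t : G)⁻¹ * x * t) * (t : G)⁻¹ = x := by group
              rw [e]; exact hx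
          intro x
          refine ⟨key x, fun hx => ?_⟩
          have h7 := key' _ hx
          have e : t⁻¹ * (t * x * t⁻¹) * t = x := by group
          rwa [e] at h7
        have hne := map_conj_ne htL'
        have hL' := map_mem_calC (MulAut.conj (⟨(t : G), htW⟩ : ↥W)) hL.1
        have hc := hWcc.comm _ hL.1 _ hL' hne.symm
        intro l hl m hm
        have hl' : (l : G) ∈ L := hl
        have hm' : (m : G) ∈ L := hm
        have h8 : ⁅(⟨(l : G), hLW hl'⟩ : ↥W), (MulAut.conj (⟨(t : G), htW⟩ : ↥W)) ⟨(m : G), hLW hm'⟩⁆ ∈ pCore 2 ↥W :=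
          hc (Subgroup.commutator_mem_commutator hl' ⟨⟨(m : G), hLW hm'⟩, hm', rfl⟩)
        exact ⟨_, h8, rfl⟩
  obtain ⟨K, hK, hLK⟩ := hmem
  refine ⟨K.map H.subtype, Subgroup.map_subtype_le K, ?_, ?_⟩
  · rw [Subgroup.subgroupOf, Subgroup.comap_map_eq_self_of_injective H.subtype_injective]
    exact hK
  · rw [← hmapL]
    exact Subgroup.map_mono hLK

omit [Finite G] in
/-- A `𝒞`-component of an overgroup of `T` with nontrivial 2-core is a member of `ℒ(G, T)`. -/
theorem mem_calL (T : Sylow 2 G) {K H : Subgroup G} (hKH : K ≤ H) (hTH : (T : Subgroup G) ≤ H) (hH : H ∈ calH G)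
    (hK : K.subgroupOf H ∈ calC ↥H) : K ∈ calL (T : Subgroup G) :=
  ⟨mem_calC_of_le le_sup_left (sup_le hKH hTH) hK, ⟨T.subtype le_sup_right, rfl⟩,
    pCore_ne_bot_anti T le_sup_right (sup_le hKH hTH) hH⟩

/-- **(1)**: a maximal member of `ℒ(G, T)` is a `𝒞`-component of every overgroup of `⟨L, T⟩` with nontrivial 2-core. -/
theorem mem_calC_of_max (hFT : OddOrd.{u}) (hCC : ∀ H ∈ calH G, CC ↥H) (T : Sylow 2 G) {L : Subgroup G}
    (hL : L ∈ calLMax (T : Subgroup G)) {H : Subgroup G} (hH : H ∈ calHOver (L ⊔ (T : Subgroup G))) :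
    L.subgroupOf H ∈ calC ↥H := by
  obtain ⟨K, hKH, hK, hLK⟩ := exists_over hFT hCC T hL.1 hH
  have h1 := mem_calL T hKH (le_sup_right.trans hH.2) hH.1 hK
  have h2 := hL.2 K h1 hLK
  rwa [h2] at hK

/-- **(2)**: `F*(L) = O_2(L)`. -/
theorem genFitting_eq (hE : IsOfEvenCharacteristic G) (T : Sylow 2 G) {L : Subgroup G}
    (hL : L ∈ calL (T : Subgroup G)) : generalizedFittingSubgroup ↥L = pCore 2 ↥L := by
  have : Fact (Nat.Prime 2) := ⟨Nat.prime_two⟩
  set W : Subgroup G := L ⊔ (T : Subgroup G) with hW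
  have hLW : L ≤ W := le_sup_left
  have h1 := charTwo_of_over hE T (X := W) le_sup_right hL.2.2
  have h2 := genFitting_of_subnormal h1 (subnormal_of_mem hL.1)
  let e : ↥(L.subgroupOf W) ≃* ↥L := Subgroup.subgroupOfEquivOfLe hLW
  have h3 := Cfsg.Agent.Lib.GenFitting.map_genFitting e
  rw [← h3, h2]
  exact map_equiv_pCore e 2

/-- A nontrivial group with `F* = O_2` has a nontrivial 2-core. -/
theorem pCore_ne_bot_of_genFitting {L : Type*} [Group L] [Finite L] [Nontrivial L]
    (h : generalizedFittingSubgroup L = pCore 2 L) : pCore 2 L ≠ ⊥ := by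
  intro h1
  have h2 := Cfsg.Agent.SignalizersComponents.CharP.centralizer_pCore_le_of_genFitting_eq h
  rw [h1] at h2
  have h3 : centralizer ((⊥ : Subgroup L) : Set L) = ⊤ := by
    rw [eq_top_iff]
    intro x _
    rw [Subgroup.mem_centralizer_iff]
    intro y hy
    have : y = 1 := hy
    rw [this, one_mul, mul_one]
  rw [h3, top_le_iff] at h2
  exact bot_ne_top h2

/-- **S1821** from the structure of `𝒞`-components. -/
theorem main (hFT : OddOrd.{u}) (hE : IsOfEvenCharacteristic G) (hCC : ∀ H ∈ calH G, CC ↥H) (T : Sylow 2 G)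
    (L : Subgroup G) (hL : L ∈ calLMax (T : Subgroup G)) :
    (∀ H ∈ calHOver (L ⊔ (T : Subgroup G)), L.subgroupOf H ∈ calC ↥H) ∧
    generalizedFittingSubgroup ↥L = pCore 2 ↥L ∧
    maxTwoLocalsContaining (L ⊔ (T : Subgroup G)) =
      {normalizer (conjClosure L (T : Subgroup G) : Set G)} := by
  have : Fact (Nat.Prime 2) := ⟨Nat.prime_two⟩
  have h1 : ∀ H ∈ calHOver (L ⊔ (T : Subgroup G)), L.subgroupOf H ∈ calC ↥H :=
    fun H hH => mem_calC_of_max hFT hCC T hL hH
  have h2 := genFitting_eq hE T hL.1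
  refine ⟨h1, h2, ?_⟩
  set W : Subgroup G := L ⊔ (T : Subgroup G) with hW
  have hLW : L ≤ W := le_sup_left
  have hTW : (T : Subgroup G) ≤ W := le_sup_right
  set Y : Subgroup G := conjClosure L (T : Subgroup G) with hY
  obtain ⟨hLb, hLp, hLs, hLm⟩ := (mem_calC_iff hLW).1 hL.1.1
  have hLY : L ≤ Y := by
    have : L.map (MulAut.conj ((1 : ↥(T : Subgroup G)) : G)).toMonoidHom ≤ Y :=
      le_iSup (fun t : ↥(T : Subgroup G) => L.map (MulAut.conj (t : G)).toMonoidHom) 1
    have e : L.map (MulAut.conj ((1 : ↥(T : Subgroup G)) : G)).toMonoidHom = L := by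
      apply map_conj_eq
      exact Subgroup.one_mem _
    rwa [e] at this
  have hYW : Y ≤ W := by
    refine iSup_le fun t => ?_
    rintro _ ⟨x, hx, rfl⟩
    exact W.mul_mem (W.mul_mem (hTW t.2) (hLW hx)) (W.inv_mem (hTW t.2))
  -- `O_2(Y) ≠ 1`
  have hYne : pCore 2 ↥Y ≠ ⊥ := by
    have hnt : Nontrivial ↥L := (Subgroup.nontrivial_iff_ne_bot L).2 hLb
    have h3 := pCore_ne_bot_of_genFitting h2
    have hLY' : (L.subgroupOf Y).IsSubnormal := hLs.comap (Subgroup.inclusion hYW)
    have h4 : (((pCore 2 ↥L).map L.subtype).subgroupOf Y).IsSubnormal := by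
      refine Subgroup.IsSubnormal.trans (H := ((pCore 2 ↥L).map L.subtype).subgroupOf Y)
        (Subgroup.comap_mono (Subgroup.map_subtype_le _)) ?_ hLY'
      have h5 : (pCore 2 ↥L).Normal := Cfsg.Agent.Lib.Cores.pCore_normal 2
      have h6 := h5.isSubnormal.comap (Subgroup.subgroupOfEquivOfLe hLY).toMonoidHom
      have e : (((pCore 2 ↥L).map L.subtype).subgroupOf Y).subgroupOf (L.subgroupOf Y) =
          (pCore 2 ↥L).comap (Subgroup.subgroupOfEquivOfLe hLY).toMonoidHom := by
        ext x
        constructor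
        · rintro ⟨y, hy, hyx⟩
          have : (Subgroup.subgroupOfEquivOfLe hLY) x = y := Subtype.ext hyx.symm
          change (Subgroup.subgroupOfEquivOfLe hLY) x ∈ pCore 2 ↥L
          rw [this]; exact hy
        · intro hx
          exact ⟨(Subgroup.subgroupOfEquivOfLe hLY) x, hx, rfl⟩
      rw [← e] at h6
      exact h6
    intro h7
    have h8 := Cfsg.Agent.SignalizersComponents.CompBasic.subnormal_pGroup_le_pCore h4
      ((map_pCore_isPGroup 2 L).comap_of_injective Y.subtype Y.subtype_injective)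
    rw [h7, le_bot_iff] at h8
    refine map_pCore_ne_bot h3 ?_
    have h9 := congrArg (Subgroup.map Y.subtype) h8
    rwa [Subgroup.subgroupOf_map_subtype, inf_eq_left.2 ((Subgroup.map_subtype_le _).trans hLY),
      Subgroup.map_bot] at h9
  refine maxTwoLocals_eq hL.1.2.2 hYne fun M hM => ?_
  have hMH : M ∈ calHOver W := ⟨pCore_ne_bot_of_twoLocal hM.1.1, hM.2⟩
  have hLM := h1 M hMH
  have hLM' : L ≤ M := hLW.trans hM.2
  have hTM : (T : Subgroup G) ≤ M := hTW.trans hM.2
  -- all `M`-conjugates of `L` lie in `Y`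
  have key : ∀ g ∈ M, L.map (MulAut.conj g).toMonoidHom ≤ Y := by
    have hnm : ∀ g : G, ∀ hg : g ∈ M, (⟨g, hg⟩ : ↥M) ∈ normalizer (L.subgroupOf M : Set ↥M) →
        L.map (MulAut.conj g).toMonoidHom = L := by
      intro g hg hgn
      have h5 := map_conj_eq hgn
      have h6 := congrArg (Subgroup.map M.subtype) h5
      rw [Subgroup.map_map, Subgroup.subgroupOf_map_subtype, inf_eq_left.2 hLM'] at h6
      have e : (L.subgroupOf M).map (M.subtype.comp (MulAut.conj (⟨g, hg⟩ : ↥M)).toMonoidHom) =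
          L.map (MulAut.conj g).toMonoidHom := by
        have e1 : M.subtype.comp (MulAut.conj (⟨g, hg⟩ : ↥M)).toMonoidHom =
            (MulAut.conj g).toMonoidHom.comp M.subtype := by
          ext x; rfl
        rw [e1, ← Subgroup.map_map, Subgroup.subgroupOf_map_subtype, inf_eq_left.2 hLM']
      rwa [e] at h6
    rcases (hCC M hMH.1).norm _ hLM with hn | hn
    · intro g hg
      rw [hnm g hg]
      · exact hLY
      · rw [Subgroup.normalizer_eq_top]; exact Subgroup.mem_top _
    · -- some element of `T` moves `L`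
      obtain ⟨t, htT, htn⟩ : ∃ t : G, ∃ ht : t ∈ (T : Subgroup G),
          (⟨t, hTM ht⟩ : ↥M) ∉ normalizer (L.subgroupOf M : Set ↥M) := by
        by_contra hcon
        push Not at hcon
        have h5 : (T.subtype hTM : Subgroup ↥M) ≤ normalizer (L.subgroupOf M : Set ↥M) := by
          rintro ⟨x, hx⟩ hxT
          exact hcon x hxT
        have h6 := Subgroup.index_dvd_of_le h5
        rw [hn] at h6
        exact (T.subtype hTM).not_dvd_index h6
      intro g hg
      by_cases hgn : (⟨g, hg⟩ : ↥M) ∈ normalizer (L.subgroupOf M : Set ↥M)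
      · rw [hnm g hg hgn]; exact hLY
      · have h5 : (⟨t, hTM htT⟩ : ↥M)⁻¹ * ⟨g, hg⟩ ∈ normalizer (L.subgroupOf M : Set ↥M) := by
          rw [Subgroup.mul_mem_iff_of_index_two hn, inv_mem_iff]
          exact ⟨fun h => absurd h htn, fun h => absurd h hgn⟩
        have h6 := hnm _ (M.mul_mem (M.inv_mem (hTM htT)) hg) h5
        have h7 : L.map (MulAut.conj g).toMonoidHom = L.map (MulAut.conj t).toMonoidHom := by
          have e1 : (MulAut.conj g).toMonoidHom =
              (MulAut.conj t).toMonoidHom.comp (MulAut.conj (t⁻¹ * g)).toMonoidHom := by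
            ext x
            change g * x * g⁻¹ = t * ((t⁻¹ * g) * x * (t⁻¹ * g)⁻¹) * t⁻¹
            group
          rw [e1, ← Subgroup.map_map, h6]
        rw [h7]
        exact le_iSup (fun t : ↥(T : Subgroup G) => L.map (MulAut.conj (t : G)).toMonoidHom) ⟨t, htT⟩
  -- hence `M` normalizes `Y`
  have key2 : ∀ g ∈ M, Y.map (MulAut.conj g).toMonoidHom ≤ Y := by
    intro g hg
    rw [hY, conjClosure, Subgroup.map_iSup]
    refine iSup_le fun t => ?_
    rw [Subgroup.map_map]
    have e1 : (MulAut.conj g).toMonoidHom.comp (MulAut.conj (t : G)).toMonoidHom =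
        (MulAut.conj (g * t)).toMonoidHom := by
      ext x
      change g * ((t : G) * x * (t : G)⁻¹) * g⁻¹ = (g * t) * x * (g * t)⁻¹
      group
    rw [e1]
    exact key _ (M.mul_mem hg (hTM t.2))
  intro g hg
  rw [Subgroup.mem_normalizer_iff]
  intro x
  constructor
  · intro hx
    exact key2 g hg ⟨x, hx, rfl⟩
  · intro hx
    have h5 := key2 g⁻¹ (M.inv_mem hg) ⟨_, hx, rfl⟩
    have e : (MulAut.conj g⁻¹).toMonoidHom (g * x * g⁻¹) = x := by
      change g⁻¹ * (g * x * g⁻¹) * g⁻¹⁻¹ = x
      group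
    rwa [e] at h5

end Cfsg.Agent.QTUniq.Main
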