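import Mathlib
import Cfsg.Agent.Lib.SylowNormalInf
import Cfsg.Agent.Lib.Cores

/-!
# Intersections of a Sylow subgroup with products of normal subgroups

For `A, B` normal and `P` a Sylow `p`-subgroup, `P ∩ AB = (P ∩ A)(P ∩ B)`; the same for the join of a finite
family of normal subgroups.
-/

set_option autoImplicit false

namespace Cfsg.Agent.QTUniq.SylowSup

open Subgroup Cfsg.Agent.Lib.SylowNormalInf

variable {G : Type*} [Group G] [Finite G] {p : ℕ} [hp : Fact p.Prime]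

/-- `P ∩ AB ≤ (P ∩ A)(P ∩ B)` for `A`, `B` normal. -/
theorem inf_sup_le (P : Sylow p G) (A B : Subgroup G) [A.Normal] [B.Normal] :
    (P : Subgroup G) ⊓ (A ⊔ B) ≤ ((P : Subgroup G) ⊓ A) ⊔ ((P : Subgroup G) ⊓ B) := by
  set Q : Subgroup G := ((P : Subgroup G) ⊓ A) ⊔ ((P : Subgroup G) ⊓ B) with hQ
  have hQP : Q ≤ (P : Subgroup G) := sup_le inf_le_left inf_le_left
  have hQAB : Q ≤ A ⊔ B := sup_le (inf_le_right.trans le_sup_left) (inf_le_right.trans le_sup_right)
  have hA := not_dvd_relIndex P A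
  have hB := not_dvd_relIndex P B
  -- `[AB : QA]` divides `[B : P ∩ B]`
  have h1 : (Q ⊔ A).relIndex (A ⊔ B) ∣ ((P : Subgroup G) ⊓ B).relIndex B := by
    have e : A ⊔ B = (Q ⊔ A) ⊔ B := by
      apply le_antisymm
      · exact sup_le (le_sup_right.trans le_sup_left) le_sup_right
      · exact sup_le (sup_le hQAB le_sup_left) le_sup_right
    rw [e, relIndex_sup_of_normal]
    exact Subgroup.relIndex_dvd_of_le_left B (le_sup_right.trans le_sup_left)
  -- `[QA : Q]` divides `[A : P ∩ A]`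
  have h2 : Q.relIndex (Q ⊔ A) ∣ ((P : Subgroup G) ⊓ A).relIndex A := by
    rw [relIndex_sup_of_normal]
    exact Subgroup.relIndex_dvd_of_le_left A le_sup_left
  rw [Subgroup.inf_relIndex_right] at h1 h2
  have h3 : ¬ p ∣ Q.relIndex (A ⊔ B) := by
    have h4 : Q.relIndex (Q ⊔ A) * (Q ⊔ A).relIndex (A ⊔ B) = Q.relIndex (A ⊔ B) :=
      Subgroup.relIndex_mul_relIndex Q (Q ⊔ A) (A ⊔ B) le_sup_left (sup_le hQAB le_sup_left)
    rw [← h4, hp.out.dvd_mul]
    rintro (h | h)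
    · exact hA (h.trans h2)
    · exact hB (h.trans h1)
  have hQ' : Q ≤ (P : Subgroup G) ⊓ (A ⊔ B) := le_inf hQP hQAB
  have h5 : Q.relIndex ((P : Subgroup G) ⊓ (A ⊔ B)) ∣ Q.relIndex (A ⊔ B) := by
    have := Subgroup.relIndex_mul_relIndex Q ((P : Subgroup G) ⊓ (A ⊔ B)) (A ⊔ B) hQ' inf_le_right
    exact Dvd.intro _ this
  have hpg : IsPGroup p ((P : Subgroup G) ⊓ (A ⊔ B) : Subgroup G) := P.isPGroup'.to_le inf_le_left
  obtain ⟨n, hn⟩ : ∃ n, Q.relIndex ((P : Subgroup G) ⊓ (A ⊔ B)) = p ^ n := by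
    obtain ⟨m, hm⟩ := IsPGroup.iff_card.1 hpg
    have hd : Q.relIndex ((P : Subgroup G) ⊓ (A ⊔ B)) ∣ p ^ m := by
      rw [← hm]
      exact Subgroup.relIndex_dvd_card _ _
    obtain ⟨n, _, hn⟩ := (Nat.dvd_prime_pow hp.out).1 hd
    exact ⟨n, hn⟩
  have hn0 : n = 0 := by
    by_contra hne
    refine h3 ((dvd_pow_self p hne).trans ?_)
    rw [← hn]
    exact h5
  rw [← Subgroup.relIndex_eq_one, hn, hn0, pow_zero]

/-- If `Q` contains `P ∩ K` for every `K` in a set of normal subgroups, it contains `P ∩ (sSup S)`. -/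
theorem inf_sSup_le (P : Sylow p G) (S : Set (Subgroup G)) (Q : Subgroup G)
    (hS : ∀ K ∈ S, K.Normal) (hQ : ∀ K ∈ S, (P : Subgroup G) ⊓ K ≤ Q) :
    (P : Subgroup G) ⊓ sSup S ≤ Q := by
  have h : (sSup S).Normal ∧ (P : Subgroup G) ⊓ sSup S ≤ Q := by
    refine Cfsg.Agent.Lib.Cores.sSup_induction_of_finite (P := fun X => X.Normal ∧ (P : Subgroup G) ⊓ X ≤ Q) S
      ⟨inferInstance, ?_⟩ (fun N hN => ⟨hS N hN, hQ N hN⟩) ?_
    · rw [inf_bot_eq]; exact bot_le
    · rintro A B ⟨hA, hA'⟩ ⟨hB, hB'⟩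
      have := hA
      have := hB
      exact ⟨Subgroup.sup_normal A B, (inf_sup_le P A B).trans (sup_le hA' hB')⟩
  exact h.2

/-- version relative to a subgroup `J`: the `K ∈ S` are subgroups of `J` normalised by `J`, and `T` is a subgroup of
`G` whose intersection with `J` is a Sylow subgroup of `J` -/
theorem inf_sSup_le_rel {J T : Subgroup G} (hT : IsPGroup p T) (hTJ : ¬ p ∣ T.relIndex J)
    (S : Set (Subgroup G)) (hSJ : ∀ K ∈ S, K ≤ J) (hS : ∀ K ∈ S, J ≤ Subgroup.normalizer (K : Set G))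
    (hJ : sSup S = J) (Q : Subgroup G) (hQ : ∀ K ∈ S, T ⊓ K ≤ Q) : T ⊓ J ≤ Q := by
  classical
  let P : Sylow p ↥J := (hT.comap_of_injective J.subtype J.subtype_injective).toSylow (P := T.subgroupOf J) hTJ
  have hP : (P : Subgroup ↥J) = T.subgroupOf J := rfl
  have h1 : (P : Subgroup ↥J) ⊓ sSup ((fun K : Subgroup G => K.subgroupOf J) '' S) ≤ Q.subgroupOf J := by
    refine inf_sSup_le P _ _ ?_ ?_
    · rintro _ ⟨K, hK, rfl⟩
      exact (Subgroup.normal_subgroupOf_iff_le_normalizer (hSJ K hK)).2 (hS K hK)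
    · rintro _ ⟨K, hK, rfl⟩
      rw [hP]
      intro x hx
      rw [Subgroup.mem_inf, Subgroup.mem_subgroupOf, Subgroup.mem_subgroupOf] at hx
      rw [Subgroup.mem_subgroupOf]
      exact hQ K hK ⟨hx.1, hx.2⟩
  have h2 : sSup ((fun K : Subgroup G => K.subgroupOf J) '' S) = ⊤ := by
    rw [eq_top_iff]
    have h3 : (⊤ : Subgroup ↥J).map J.subtype ≤
        (sSup ((fun K : Subgroup G => K.subgroupOf J) '' S)).map J.subtype := by
      rw [← MonoidHom.range_eq_map, Subgroup.range_subtype]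
      conv_lhs => rw [← hJ]
      refine sSup_le fun K hK => ?_
      have h4 : (K.subgroupOf J).map J.subtype = K := by
        rw [Subgroup.subgroupOf_map_subtype, inf_eq_left]
        exact hSJ K hK
      conv_lhs => rw [← h4]
      exact Subgroup.map_mono (le_sSup ⟨K, hK, rfl⟩)
    exact (Subgroup.map_le_map_iff_of_injective J.subtype_injective).1 h3
  rw [h2, inf_top_eq, hP] at h1
  intro x hx
  exact h1 (show (⟨x, hx.2⟩ : ↥J) ∈ T.subgroupOf J from hx.1)

end Cfsg.Agent.QTUniq.SylowSup
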